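import Cfsg.Agent.H142.EP.T4
import Cfsg.Agent.H315.JThreeFact
import Cfsg.Agent.H143.OdmLift
import Cfsg.Agent.H315.Eight.RowJ3
import Cfsg.Agent.H809.Evn.Cyc
import Cfsg.Agent.H715.Fpr.J3

/-!
# S4929: the row `J₃` (helper273)

`p = 17, 19, 3`: the centralizer of a Sylow `p`-subgroup is a `p`-group; the degree 324, respectively an even degree prime
to 3, which exists by linear programming (`exists_three`).  `p = 5`: cyclic Sylow subgroups, a real element of order 5.
-/

set_option autoImplicit false
set_option maxRecDepth 100000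

open Cfsg Subgroup Cfsg.Agent.Characters.Core Cfsg.Agent.H892.EP Cfsg.Agent.H417.JThreeLP

namespace Cfsg.Agent.H273.EP.J3

section lp

variable {ι : Type*} [Fintype ι] {V : ι → Fin 8 → ℤ}

/-- the rows of odd degree or of degree divisible by 3 -/
def evs : List (List ℤ) := vecs.filter fun l => decide (l.getD 0 0 % 2 = 1 ∨ l.getD 0 0 % 3 = 0)

theorem leaf0 (h : Hyp V) (hW : ∀ χ, ∃ l ∈ evs, V χ = fn l) (h1 : num V (degIs 85) ≤ 1) :
    False := by
  refine leaf h evs hW
    [1575, 213690, 1479000, 3998400, 10648800, 3998400, 3574080, 0, 1333048591, 13370718280, 26608655680,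
     -21682140000, -24652638400, 7053637824, 40706649600, 33687410800, 133203622400, -110893910400, -123447526400,
     30978754560, 198773030400, -4464281600, 269001254400, 8092979200, -198052208640, -4760217600, -316132761600,
     -215194867200, 510004569600, 402306278400, 8654387200, 216630374400, -4760217600, -122200713216, -316132761600,
     1472716800, -316132761600, -5806080000, -255307161600, 0, -27636940800]
    [(degIs 85, (23939481600 : ℤ), (23939481600 : ℤ) * 1)] ?_
    (by decide +kernel) (by decide +kernel)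
  intro e he
  simp only [List.mem_cons, List.not_mem_nil, or_false] at he
  rcases he with rfl
  · exact le_of_le (by norm_num) h1

theorem leaf1 (h : Hyp V) (hW : ∀ χ, ∃ l ∈ evs, V χ = fn l)
    (h0 : num V (degIs 1140) ≤ 1) (h1 : 2 ≤ num V (degIs 85)) : False := by
  refine leaf h evs hW
    [-447975, -2650108410, -1030822200, 7581456000, 19162944000, -14688489600, -27244869120, 0, 382924178033,
     6124276138520, 15882413156480, -15901138060800, -16149714519680, 3034602385152, 20153165875200, 20965748474000,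
     76453732038400, -47164805222400, -75494667001600, 17808932547840, 84112003123200, -4778572595200,
     176291109542400, -1257849856000, -101057592330240, -16653826252800, -127917674496000, -151809772608000,
     220334376614400, 184877832499200, 23320728166400, 118574085949440, -16653826252800, -67505793251328,
     -127917674496000, -64623847219200, -127917674496000, -105218942976000, -119949391872000, 106870358016000,
     36951717888000]
    [(degIs 1140, (128274886656000 : ℤ),
      (128274886656000 : ℤ) * 1),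
      (degIs 85, (-127917674496000 : ℤ),
      (-127917674496000 : ℤ) * 2)] ?_
    (by decide +kernel) (by decide +kernel)
  intro e he
  simp only [List.mem_cons, List.not_mem_nil, or_false] at he
  rcases he with rfl | rfl
  · exact le_of_le (by norm_num) h0
  · exact le_of_ge (by norm_num) h1

theorem leaf2 (h : Hyp V) (hW : ∀ χ, ∃ l ∈ evs, V χ = fn l) (h0 : 2 ≤ num V (degIs 1140)) : False := by
  refine leaf h evs hW
    [-256725, -29060310, -118993200, -89923200, -891867600, -226358400, -216745920, 0, 5383766907, 58004675920,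
     113355945600, -130086854640, -168106564480, 28733439168, 267499814400, 173715472400, 546344422400,
     -586015540800, -717938560000, 158000643840, 1331992051200, -19894732800, 996994022400, 396373196800,
     -776192256000, -182029363200, -2036109312000, -1332227712000, 2446799109120, 2762366284800, 392718387200,
     1041461975040, -89154201600, -599652052992, -2036109312000, 192299212800, -2036109312000, 658741248000,
     2498769100800, 287649792000, 527357952000]
    [(degIs 1140, (-2036109312000 : ℤ), (-2036109312000 : ℤ) * 2)] ?_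
    (by decide +kernel) (by decide +kernel)
  intro e he
  simp only [List.mem_cons, List.not_mem_nil, or_false] at he
  rcases he with rfl
  · exact le_of_ge (by norm_num) h0

/-- an even degree prime to 3 -/
theorem exists_three (h : Hyp V) : ∃ χ, V χ 0 % 2 = 0 ∧ V χ 0 % 3 ≠ 0 := by
  by_contra hno
  push Not at hno
  have hW : ∀ χ, ∃ l ∈ evs, V χ = fn l := by
    intro χ
    obtain ⟨l, hl, hv⟩ := h.mem χ
    refine ⟨l, ?_, hv⟩
    have h1 := hno χ
    rw [hv] at h1
    have h2 : fn l 0 = l.getD 0 0 := rfl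
    rw [h2] at h1
    rw [evs, List.mem_filter]
    refine ⟨hl, ?_⟩
    rw [decide_eq_true_eq]
    rcases Int.emod_two_eq_zero_or_one (l.getD 0 0) with h3 | h3
    · exact Or.inr (h1 h3)
    · exact Or.inl h3
  rcases le_or_gt (num V (degIs 85)) 1 with h0 | h0
  · exact leaf0 h hW h0
  · rcases le_or_gt (num V (degIs 1140)) 1 with h1 | h1
    · exact leaf1 h hW h1 h0
    · exact leaf2 h hW h1

end lp

variable {K : Type} [Group K]

/-- the centralizer of a Sylow `p`-subgroup is a `p`-group -/
theorem cent_sylow [Finite K] {p : ℕ} [Fact p.Prime] (P : Sylow p K) {e : ℕ} (he : p ^ e ∣ Nat.card K)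
    (hq : ∀ q : ℕ, q.Prime → q ∣ Nat.card K → q ≠ p → ∀ y : K, orderOf y = q →
      ¬ p ^ e ∣ Nat.card ↥(centralizer ({y} : Set K))) :
    ∀ x ∈ centralizer ((P : Subgroup K) : Set K), ∃ k : ℕ, x ^ p ^ k = 1 := by
  intro x hx
  have h1 : ∀ q : ℕ, q.Prime → q ∣ orderOf x → q = p := by
    intro q hqp hqx
    by_contra hne
    obtain ⟨y, hy, n, hyn⟩ : ∃ y : K, orderOf y = q ∧ ∃ n : ℕ, y = x ^ n := by
      refine ⟨x ^ (orderOf x / q), ?_, _, rfl⟩
      rw [orderOf_pow_of_dvd (Nat.div_pos (Nat.le_of_dvd (orderOf_pos x) hqx) hqp.pos).ne' (Nat.div_dvd_of_dvd hqx),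
        Nat.div_div_self hqx (orderOf_pos x).ne']
    refine hq q hqp (hqx.trans (orderOf_dvd_natCard x)) hne y hy ?_
    have h2 : p ^ e ∣ Nat.card P := P.pow_dvd_card_of_pow_dvd_card he
    refine h2.trans (Subgroup.card_dvd_of_le (H := (P : Subgroup K)) fun u hu => ?_)
    rw [mem_centralizer_singleton_iff, hyn]
    exact (show Commute u x from mem_centralizer_iff.1 hx u hu).pow_right n
  obtain ⟨k, hk⟩ : ∃ k, orderOf x = p ^ k := by
    have h2 := Nat.eq_prime_pow_of_unique_prime_dvd (orderOf_pos x).ne' (fun {q} hq' hd => h1 q hq' hd)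
    exact ⟨_, h2⟩
  exact ⟨k, by rw [← hk, pow_orderOf_eq_one]⟩

theorem card_five (h : Spor.IsoJ3 K) {y : K} (hy : orderOf y = 5) : ¬ 243 ∣ Nat.card ↥(centralizer ({y} : Set K)) := by
  have h1 := H715.Fpr.J3.not_2430 h hy
  have h2 := H715.Fpr.J3.cn5 h (R := zpowers y) (by rw [Nat.card_zpowers, hy])
  rw [H898.J3Cent.centralizer_zpowers] at h2
  intro h3
  rcases h2 with h2 | h2 | h2
  · rw [h2.1] at h3; revert h3; decide
  · rw [h2.1] at h3; revert h3; decide
  · exact h1 h2.1

theorem primes (h : Spor.IsoJ3 K) {q : ℕ} (hq : q.Prime) (hd : q ∣ Nat.card K) :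
    q = 2 ∨ q = 3 ∨ q = 5 ∨ q = 17 ∨ q = 19 := by
  rw [(H898.J3Cent.base h).2.1] at hd
  exact H898.J3Cent.prime_dvd_card hq hd

theorem card_two (h : Spor.IsoJ3 K) {y : K} (hy : orderOf y = 2) :
    Nat.card ↥(centralizer ({y} : Set K)) = 1920 :=
  ((H898.J3Cent.base h).2.2 y hy).2.1

theorem exists_deg [Finite K] (h : Spor.IsoJ3 K) :
    (∃ χ : IrrCharacter K, charDegree (χ : K → ℂ) = 324) ∧
      ∃ χ : IrrCharacter K, 2 ∣ charDegree (χ : K → ℂ) ∧ ¬ 3 ∣ charDegree (χ : K → ℂ) := by
  classical
  have := finite_irr (G := K)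
  let _ := Fintype.ofFinite (IrrCharacter K)
  obtain ⟨V, hV, H⟩ := H417.JThreeDeg.hyp h
  have hdg : ∀ χ : IrrCharacter K, M23Order.Base.dg χ = charDegree (χ : K → ℂ) := fun χ => rfl
  constructor
  · obtain ⟨χ, hχ⟩ := H315.Eight.RowJ3.deg_324 H
    refine ⟨χ, ?_⟩
    rw [hV χ, hdg] at hχ
    exact_mod_cast hχ
  · obtain ⟨χ, h1, h2⟩ := exists_three H
    refine ⟨χ, ?_, ?_⟩
    · rw [hV χ, hdg] at h1
      omega
    · rw [hV χ, hdg] at h2
      omega

theorem ev_j3 [Finite K] (h : Spor.IsoJ3 K) : Ev K := by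
  have hc := (H898.J3Cent.base h).2.1
  obtain ⟨⟨χ, hχ⟩, ψ, hψ2, hψ3⟩ := exists_deg h
  intro p hp hp2 hd
  have fp := Fact.mk hp
  obtain ⟨P⟩ : Nonempty (Sylow p K) := inferInstance
  rcases primes h hp hd with rfl | rfl | rfl | rfl | rfl
  · exact absurd rfl hp2
  · -- `p = 3`
    refine H142.EP.evAt_of_centralizer P (cent_sylow P (e := 5) (by rw [hc]; norm_num) ?_) ψ hψ2 hψ3
    intro q hq hqd hq3 y hy
    rcases primes h hq hqd with rfl | rfl | rfl | rfl | rfl
    · rw [card_two h hy]; decide
    · exact absurd rfl hq3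
    · exact card_five h hy
    · rw [(H898.J3Cent.seventeen h hy).1]; decide
    · rw [H898.J3Cent.card_nineteen h hy]; decide
  · -- `p = 5`
    intro M hM
    obtain ⟨x, hx⟩ := exists_prime_orderOf_dvd_card' (G := K) 2 (by rw [hc]; norm_num)
    obtain ⟨φ, hφ, hk, -⟩ := H315.JThreeFact.exists_psi h x hx
    obtain ⟨y, hy, hr⟩ := H143.OdmLift.realP_five φ hφ.ge (by rw [hk]; norm_num)
    have hr' := hr.coe
    refine H809.Evn.exists_even_of_real_cyclic hM hp2 (fun P => ?_) (y : K) ⟨1, by rw [Subgroup.orderOf_coe, hy, pow_one]⟩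
      (fun h1 => ?_) ?_
    · have h5 : Nat.card P = 5 := by
        obtain ⟨k, hk⟩ := IsPGroup.iff_card.1 P.isPGroup'
        have h1 : 5 ^ 1 ∣ Nat.card P := P.pow_dvd_card_of_pow_dvd_card (by rw [hc]; norm_num)
        have h2 : Nat.card P ∣ Nat.card K := card_subgroup_dvd_card _
        rw [hk] at h1 h2 ⊢
        rw [hc] at h2
        match k with
        | 0 => norm_num at h1
        | 1 => rfl
        | k + 2 =>
          have h3 : 5 ^ 2 ∣ 50232960 := (pow_dvd_pow 5 (by omega)).trans h2
          norm_num at h3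
      exact isCyclic_of_prime_card h5
    · rw [← Subgroup.orderOf_coe, h1, orderOf_one] at hy
      norm_num at hy
    · obtain ⟨g, hg⟩ := hr'
      exact isConj_iff.2 ⟨g, hg⟩
  · -- `p = 17`
    refine H142.EP.evAt_of_centralizer P (cent_sylow P (e := 1) (by rw [hc]; norm_num) ?_) χ (by rw [hχ]; norm_num)
      (by rw [hχ]; norm_num)
    intro q hq hqd hq3 y hy
    rw [pow_one]
    intro h17
    have h1 := exists_prime_orderOf_dvd_card' (G := ↥(centralizer ({y} : Set K))) 17 h17
    obtain ⟨z, hz⟩ := h1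
    have hz' : orderOf (z : K) = 17 := by rw [Subgroup.orderOf_coe, hz]
    have h2 : y ∈ centralizer ({(z : K)} : Set K) := by
      rw [mem_centralizer_singleton_iff]
      exact (mem_centralizer_singleton_iff.1 z.2).symm
    have h3 := Subgroup.orderOf_dvd_natCard _ h2
    rw [(H898.J3Cent.seventeen h hz').1, hy] at h3
    exact hq3 ((Nat.prime_dvd_prime_iff_eq hq hp).1 h3)
  · -- `p = 19`
    refine H142.EP.evAt_of_centralizer P (cent_sylow P (e := 1) (by rw [hc]; norm_num) ?_) χ (by rw [hχ]; norm_num)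
      (by rw [hχ]; norm_num)
    intro q hq hqd hq3 y hy
    rw [pow_one]
    intro h19
    have h1 := exists_prime_orderOf_dvd_card' (G := ↥(centralizer ({y} : Set K))) 19 h19
    obtain ⟨z, hz⟩ := h1
    have hz' : orderOf (z : K) = 19 := by rw [Subgroup.orderOf_coe, hz]
    have h2 : y ∈ centralizer ({(z : K)} : Set K) := by
      rw [mem_centralizer_singleton_iff]
      exact (mem_centralizer_singleton_iff.1 z.2).symm
    have h3 := Subgroup.orderOf_dvd_natCard _ h2
    rw [H898.J3Cent.card_nineteen h hz', hy] at h3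
    exact hq3 ((Nat.prime_dvd_prime_iff_eq hq hp).1 h3)

end Cfsg.Agent.H273.EP.J3

namespace Cfsg.Agent.H273.EP

/-- **the row `J₃`** -/
theorem row_j3 : ∀ (K : Type) [Group K] [Finite K] [IsSimpleGroup K], Spor.IsoJ3 K → Ev K :=
  fun _ _ _ _ h => J3.ev_j3 h

end Cfsg.Agent.H273.EP
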